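import Mathlib

set_option autoImplicit false

/-!
# Counting solutions of `f a + g b = 0`
-/

namespace Cfsg.Agent.Lib.Helper5.QuadTwo

open Finset

section count
variable {F : Type*}

open Classical in
/-- number of solutions of `f = c` -/
noncomputable def cnt {α : Type*} [Fintype α] (f : α → F) (c : F) : ℕ :=
  (univ.filter (fun a => f a = c)).card

theorem cnt_le {α : Type*} [Fintype α] (f : α → F) (c : F) : cnt f c ≤ Fintype.card α := by
  classical
  unfold cnt
  exact card_le_univ _

theorem cnt_congr_equiv {α β : Type*} [Fintype α] [Fintype β] (e : α ≃ β) (f : α → F) (g : β → F)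
    (h : ∀ a, g (e a) = f a) (c : F) : cnt f c = cnt g c := by
  classical
  unfold cnt
  apply card_equiv e
  intro a
  simp only [mem_filter, mem_univ, true_and]
  rw [h]

theorem cnt_pos_of {α : Type*} [Fintype α] (f : α → F) (c : F) (a : α) (h : f a = c) :
    0 < cnt f c := by
  classical
  unfold cnt
  exact card_pos.2 ⟨a, by simp [h]⟩

theorem cnt_eq_one_of {α : Type*} [Fintype α] (f : α → F) (c : F) (a : α) (h : f a = c)
    (huniq : ∀ b, f b = c → b = a) : cnt f c = 1 := by
  classical
  unfold cnt
  rw [card_eq_one]
  refine ⟨a, ?_⟩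
  ext b
  simp only [mem_filter, mem_univ, true_and, mem_singleton]
  exact ⟨huniq b, fun hb => by rw [hb]; exact h⟩

theorem one_lt_cnt_of {α : Type*} [Fintype α] (f : α → F) (c : F) (a b : α) (hab : a ≠ b)
    (ha : f a = c) (hb : f b = c) : 1 < cnt f c := by
  classical
  unfold cnt
  rw [one_lt_card]
  exact ⟨a, by simp [ha], b, by simp [hb], hab⟩

/-- fibrewise count of the zeros of a sum -/
theorem cnt_add [Field F] {α β : Type*} [Fintype α] [Fintype β] (f : α → F) (g : β → F) :
    cnt (fun p : α × β => f p.1 + g p.2) 0 = ∑ b, cnt f (-g b) := by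
  classical
  unfold cnt
  rw [card_filter, Fintype.sum_prod_type_right]
  apply sum_congr rfl
  intro b _
  rw [card_filter]
  apply sum_congr rfl
  intro a _
  simp only [eq_neg_iff_add_eq_zero]

/-- zeros of a sum with a balanced first summand -/
theorem cnt_add_of_balanced [Field F] {α β : Type*} [Fintype α] [Fintype β] (f : α → F) (g : β → F)
    (N n : ℕ) (hN : cnt f 0 = N) (hn : ∀ c, c ≠ 0 → cnt f c = n) :
    cnt (fun p : α × β => f p.1 + g p.2) 0 =
      N * cnt g 0 + n * (Fintype.card β - cnt g 0) := by
  classical
  rw [cnt_add]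
  have h1 : ∀ b, cnt f (-g b) = if g b = 0 then N else n := by
    intro b
    by_cases hb : g b = 0
    · rw [if_pos hb, hb, neg_zero, hN]
    · rw [if_neg hb]
      exact hn _ (neg_ne_zero.2 hb)
  simp only [h1]
  rw [sum_ite, sum_const, sum_const, smul_eq_mul, smul_eq_mul, mul_comm _ N, mul_comm _ n]
  congr 2
  unfold cnt
  rw [filter_not, card_sdiff_of_subset (filter_subset _ _), card_univ]

variable [Field F] [Fintype F]

/-- the total count for a balanced function -/
theorem card_eq_of_balanced {α : Type*} [Fintype α] (f : α → F) (n : ℕ)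
    (hn : ∀ c, c ≠ 0 → cnt f c = n) :
    Fintype.card α = cnt f 0 + (Fintype.card F - 1) * n := by
  classical
  have h1 : Fintype.card α = ∑ c : F, cnt f c := by
    unfold cnt
    rw [← card_univ]
    exact card_eq_sum_card_fiberwise (fun a _ => mem_univ (f a))
  rw [h1, ← add_sum_erase univ _ (mem_univ (0 : F))]
  congr 1
  rw [sum_congr rfl (fun c hc => hn c (ne_of_mem_erase hc)), sum_const, smul_eq_mul,
    card_erase_of_mem (mem_univ _), card_univ]

omit [Field F] [Fintype F] in
theorem cnt_eq_natCard {α : Type*} [Fintype α] (f : α → F) (c : F) :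
    cnt f c = Nat.card {a : α // f a = c} := by
  classical
  unfold cnt
  rw [Nat.card_eq_fintype_card, Fintype.card_subtype]

open Classical in
/-- solutions of `x y = c` -/
theorem cnt_mul (c : F) :
    cnt (fun p : F × F => p.1 * p.2) c = (if c = 0 then Fintype.card F else 0) +
      (Fintype.card F - 1) := by
  classical
  unfold cnt
  rw [card_filter, Fintype.sum_prod_type]
  have h1 : ∀ x : F, (∑ y : F, if x * y = c then 1 else 0) =
      if x = 0 then (if c = 0 then Fintype.card F else 0) else 1 := by
    intro x
    by_cases hx : x = 0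
    · rw [if_pos hx, hx]
      simp only [zero_mul]
      by_cases hc : c = 0
      · rw [if_pos hc, hc]
        simp
      · rw [if_neg hc]
        simp [Ne.symm hc]
    · rw [if_neg hx]
      rw [← card_filter]
      rw [card_eq_one]
      refine ⟨c / x, ?_⟩
      ext y
      simp only [mem_filter, mem_univ, true_and, mem_singleton]
      constructor
      · intro h
        rw [← h, mul_div_cancel_left₀ _ hx]
      · intro h
        rw [h, mul_div_cancel₀ _ hx]
  simp only [h1]
  have h2 : univ.filter (fun x : F => x = 0) = {0} := by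
    ext x
    simp
  have h3 : univ.filter (fun x : F => ¬ x = 0) = univ.erase 0 := by
    ext x
    simp
  rw [sum_ite, sum_const, sum_const, h2, h3, card_singleton, one_smul,
    smul_eq_mul, mul_one, card_erase_of_mem (mem_univ _), card_univ]

/-- zeros of `x y + g b` -/
theorem cnt_hyp_add {β : Type*} [Fintype β] (g : β → F) :
    cnt (fun p : (F × F) × β => p.1.1 * p.1.2 + g p.2) 0 =
      Fintype.card F * cnt g 0 + (Fintype.card F - 1) * Fintype.card β := by
  have h := cnt_add_of_balanced (fun p : F × F => p.1 * p.2) g
    (Fintype.card F + (Fintype.card F - 1)) (Fintype.card F - 1)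
    (by rw [cnt_mul, if_pos rfl])
    (fun c hc => by rw [cnt_mul, if_neg hc, zero_add])
  rw [h]
  have h2 := cnt_le g 0
  obtain ⟨k, hk⟩ := Nat.exists_eq_add_of_le h2
  rw [hk, Nat.add_sub_cancel_left]
  ring

end count

end Cfsg.Agent.Lib.Helper5.QuadTwo
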