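import Mathlib
import Cfsg.Agent.Lib.Helper5.QuadTwo.Count

set_option autoImplicit false

/-!
# Splitting a quadratic space along a pair of vectors with `B(v, w) = 1`
-/

namespace Cfsg.Agent.Lib.Helper5.QuadTwo

open QuadraticMap Module

universe u v

section basic
variable {F : Type u} [Field F] {V : Type v} [AddCommGroup V] [Module F V] (Q : QuadraticForm F V)

/-- nondegeneracy of the polar form -/
def Nd : Prop := ∀ v, (∀ w, polar Q w v = 0) → v = 0

theorem q_add (x y : V) : Q (x + y) = Q x + Q y + polar Q x y := by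
  unfold polar
  ring

theorem q_smul (a : F) (x : V) : Q (a • x) = a * a * Q x := by
  rw [QuadraticMap.map_smul, smul_eq_mul]

/-- the restriction of a quadratic form to a subspace -/
def res (U : Submodule F V) : QuadraticForm F U := Q.comp U.subtype

theorem res_apply (U : Submodule F V) (x : U) : res Q U x = Q (x : V) := rfl

theorem polar_res (U : Submodule F V) (x y : U) :
    polar (res Q U) x y = polar Q (x : V) (y : V) := rfl

/-- a pair with `B(v,w) = 1`, `B(v,v) = 0 = B(w,w)` -/
structure Pair (v w : V) : Prop where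
  vw : polar Q v w = 1
  vv : polar Q v v = 0
  ww : polar Q w w = 0

/-- the orthogonal complement of a pair -/
def pcompl (v w : V) : Submodule F V where
  carrier := {x | polar Q x v = 0 ∧ polar Q x w = 0}
  add_mem' := by
    intro x y hx hy
    exact ⟨by rw [polar_add_left, hx.1, hy.1, add_zero], by rw [polar_add_left, hx.2, hy.2, add_zero]⟩
  zero_mem' := ⟨polar_zero_left Q v, polar_zero_left Q w⟩
  smul_mem' := by
    intro a x hx
    exact ⟨by rw [polar_smul_left, hx.1, smul_zero], by rw [polar_smul_left, hx.2, smul_zero]⟩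

theorem mem_pcompl (v w x : V) : x ∈ pcompl Q v w ↔ polar Q x v = 0 ∧ polar Q x w = 0 := Iff.rfl

/-- projection to the complement -/
def pproj (v w : V) (x : V) : V := x - polar Q x w • v - polar Q x v • w

variable {Q}

theorem pproj_mem {v w : V} (h : Pair Q v w) (x : V) : pproj Q v w x ∈ pcompl Q v w := by
  constructor
  · unfold pproj
    rw [polar_sub_left, polar_sub_left, polar_smul_left, polar_smul_left, h.vv,
      polar_comm Q w v, h.vw, smul_eq_mul, smul_eq_mul, mul_zero, mul_one, sub_zero, sub_self]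
  · unfold pproj
    rw [polar_sub_left, polar_sub_left, polar_smul_left, polar_smul_left, h.ww, h.vw,
      smul_eq_mul, smul_eq_mul, mul_zero, mul_one, sub_self, sub_zero]

theorem eq_add_pproj (v w x : V) :
    x = polar Q x w • v + polar Q x v • w + pproj Q v w x := by
  unfold pproj
  abel

/-- the splitting of the space along a pair -/
noncomputable def psplit {v w : V} (h : Pair Q v w) : V ≃ₗ[F] (F × F) × pcompl Q v w where
  toFun x := ((polar Q x w, polar Q x v), ⟨pproj Q v w x, pproj_mem h x⟩)
  map_add' x y := by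
    apply Prod.ext
    · apply Prod.ext
      · exact polar_add_left Q x y w
      · exact polar_add_left Q x y v
    · apply Subtype.ext
      show pproj Q v w (x + y) = pproj Q v w x + pproj Q v w y
      unfold pproj
      rw [polar_add_left, polar_add_left, add_smul, add_smul]
      abel
  map_smul' a x := by
    apply Prod.ext
    · apply Prod.ext
      · exact polar_smul_left Q a x w
      · exact polar_smul_left Q a x v
    · apply Subtype.ext
      show pproj Q v w (a • x) = a • pproj Q v w x
      unfold pproj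
      rw [polar_smul_left, polar_smul_left, smul_sub, smul_sub, smul_smul, smul_smul, smul_eq_mul,
        smul_eq_mul]
  invFun p := p.1.1 • v + p.1.2 • w + (p.2 : V)
  left_inv x := (eq_add_pproj v w x).symm
  right_inv p := by
    obtain ⟨⟨a, b⟩, ⟨x₀, hx₀⟩⟩ := p
    have h1 : polar Q (a • v + b • w + x₀) w = a := by
      rw [polar_add_left, polar_add_left, polar_smul_left, polar_smul_left, h.vw, h.ww, hx₀.2,
        smul_eq_mul, smul_eq_mul, mul_one, mul_zero, add_zero, add_zero]
    have h2 : polar Q (a • v + b • w + x₀) v = b := by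
      rw [polar_add_left, polar_add_left, polar_smul_left, polar_smul_left, h.vv,
        polar_comm Q w v, h.vw, hx₀.1, smul_eq_mul, smul_eq_mul, mul_one, mul_zero, zero_add,
        add_zero]
    apply Prod.ext
    · apply Prod.ext
      · exact h1
      · exact h2
    · apply Subtype.ext
      show pproj Q v w (a • v + b • w + x₀) = x₀
      unfold pproj
      rw [h1, h2]
      abel

theorem psplit_symm_apply {v w : V} (h : Pair Q v w) (a b : F) (x₀ : pcompl Q v w) :
    (psplit h).symm ((a, b), x₀) = a • v + b • w + (x₀ : V) := rfl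

theorem q_pair {v w : V} (h : Pair Q v w) (a b : F) (x₀ : pcompl Q v w) :
    Q (a • v + b • w + (x₀ : V)) = a * a * Q v + a * b + b * b * Q w + Q (x₀ : V) := by
  have h1 : polar Q (a • v + b • w) (x₀ : V) = 0 := by
    rw [polar_add_left, polar_smul_left, polar_smul_left, polar_comm Q v, polar_comm Q w,
      x₀.2.1, x₀.2.2, smul_zero, smul_zero, add_zero]
  rw [q_add, h1, q_add, q_smul, q_smul, polar_smul_left, polar_smul_right, h.vw, smul_eq_mul,
    smul_eq_mul]
  ring

theorem q_psplit_symm {v w : V} (h : Pair Q v w) (p : (F × F) × pcompl Q v w) :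
    Q ((psplit h).symm p) = p.1.1 * p.1.1 * Q v + p.1.1 * p.1.2 + p.1.2 * p.1.2 * Q w +
      Q (p.2 : V) := by
  obtain ⟨⟨a, b⟩, x₀⟩ := p
  exact q_pair h a b x₀

theorem nd_pcompl (hQ : Nd Q) {v w : V} (h : Pair Q v w) : Nd (res Q (pcompl Q v w)) := by
  intro x₀ hx₀
  apply Subtype.ext
  apply hQ
  intro y
  have h1 := hx₀ ⟨pproj Q v w y, pproj_mem h y⟩
  rw [polar_res] at h1
  rw [eq_add_pproj (Q := Q) v w y, polar_add_left, polar_add_left, polar_smul_left, polar_smul_left,
    polar_comm Q v, polar_comm Q w, x₀.2.1, x₀.2.2, smul_zero, smul_zero, add_zero, zero_add]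
  exact h1

theorem finrank_pcompl [FiniteDimensional F V] {v w : V} (h : Pair Q v w) :
    finrank F V = 2 + finrank F (pcompl Q v w) := by
  have h1 : finrank F V = finrank F ((F × F) × pcompl Q v w) := LinearEquiv.finrank_eq (psplit h)
  rw [h1, Module.finrank_prod, Module.finrank_prod, Module.finrank_self]

/-- a singular vector of a nondegenerate space lies in a hyperbolic pair -/
theorem exists_hyp_pair (hQ : Nd Q) {v : V} (hv : v ≠ 0) (hv0 : Q v = 0) :
    ∃ w, Q w = 0 ∧ Pair Q v w := by
  have h1 : ∃ u, polar Q u v ≠ 0 := by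
    by_contra h
    push Not at h
    exact hv (hQ v h)
  obtain ⟨u, hu⟩ := h1
  obtain ⟨u', hu'⟩ : ∃ u', polar Q u' v = 1 :=
    ⟨(polar Q u v)⁻¹ • u, by rw [polar_smul_left, smul_eq_mul, inv_mul_cancel₀ hu]⟩
  have hvv : polar Q v v = 0 := by rw [polar_self, hv0, smul_zero]
  have hw0 : Q (u' + (-Q u') • v) = 0 := by
    rw [q_add, q_smul, hv0, polar_smul_right, hu', smul_eq_mul]
    ring
  refine ⟨u' + (-Q u') • v, hw0, ?_, hvv, ?_⟩
  · rw [polar_add_right, polar_smul_right, hvv, smul_zero, add_zero, polar_comm, hu']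
  · rw [polar_self, hw0, smul_zero]

/-- gluing isometries of the complements of two matching pairs -/
theorem glue {V' : Type v} [AddCommGroup V'] [Module F V'] {Q' : QuadraticForm F V'}
    {v w : V} {v' w' : V'} (h : Pair Q v w) (h' : Pair Q' v' w') (hv : Q v = Q' v')
    (hw : Q w = Q' w') (ψ : pcompl Q v w ≃ₗ[F] pcompl Q' v' w')
    (hψ : ∀ x : pcompl Q v w, Q' (ψ x : V') = Q (x : V)) :
    ∃ φ : V ≃ₗ[F] V', ∀ x, Q' (φ x) = Q x := by
  refine ⟨(psplit h).trans (((LinearEquiv.refl F (F × F)).prodCongr ψ).trans (psplit h').symm), ?_⟩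
  intro x
  have h1 : x = (psplit h).symm (psplit h x) := ((psplit h).symm_apply_apply x).symm
  conv_rhs => rw [h1, q_psplit_symm]
  rw [LinearEquiv.trans_apply, LinearEquiv.trans_apply, q_psplit_symm]
  simp only [LinearEquiv.prodCongr_apply, LinearEquiv.refl_apply]
  rw [hψ, hv, hw]

/-- isometry of zero-dimensional spaces -/
theorem iso_of_finrank_zero {V' : Type v} [AddCommGroup V'] [Module F V']
    [FiniteDimensional F V] [FiniteDimensional F V'] (Q' : QuadraticForm F V')
    (hV : finrank F V = 0) (hV' : finrank F V' = 0) :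
    ∃ φ : V ≃ₗ[F] V', ∀ x, Q' (φ x) = Q x := by
  have : Subsingleton V := Module.finrank_zero_iff.1 hV
  refine ⟨LinearEquiv.ofFinrankEq V V' (by rw [hV, hV']), ?_⟩
  intro x
  rw [Subsingleton.elim x 0, map_zero, QuadraticMap.map_zero, QuadraticMap.map_zero]

/-- nondegeneracy of an orthogonal summand -/
theorem nd_of_isCompl (hQ : Nd Q) {U W : Submodule F V} (hUW : IsCompl U W)
    (horth : ∀ u ∈ U, ∀ w ∈ W, polar Q u w = 0) : Nd (res Q U) := by
  intro x hx
  apply Subtype.ext
  apply hQ
  intro z
  obtain ⟨u, w, rfl⟩ : ∃ (u : U) (w : W), (u : V) + (w : V) = z := by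
    have hz : z ∈ U ⊔ W := by rw [hUW.sup_eq_top]; exact Submodule.mem_top
    obtain ⟨u, hu, w, hw, rfl⟩ := Submodule.mem_sup.1 hz
    exact ⟨⟨u, hu⟩, ⟨w, hw⟩, rfl⟩
  have h1 := hx u
  rw [polar_res] at h1
  rw [polar_add_left, h1, polar_comm, horth x x.2 w w.2, add_zero]

theorem q_add_of_orth {U W : Submodule F V} (horth : ∀ u ∈ U, ∀ w ∈ W, polar Q u w = 0)
    (u : U) (w : W) : Q ((u : V) + (w : V)) = Q (u : V) + Q (w : V) := by
  rw [q_add, horth u u.2 w w.2, add_zero]

end basic

section zeros
variable {F : Type u} [Field F] {V : Type v}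

/-- the number of singular vectors -/
noncomputable def zeros (Q : V → F) : ℕ := Nat.card {x : V // Q x = 0}

theorem zeros_eq_cnt [Fintype V] (Q : V → F) : zeros Q = cnt Q 0 := (cnt_eq_natCard Q 0).symm

theorem zeros_congr {V' : Type*} (e : V ≃ V') (Q : V → F) (Q' : V' → F)
    (h : ∀ x, Q' (e x) = Q x) : zeros Q = zeros Q' := by
  unfold zeros
  exact Nat.card_congr (e.subtypeEquiv (fun x => by rw [h]))

variable [AddCommGroup V] [Module F V] [Fintype F] [FiniteDimensional F V]

/-- zeros of a space split by a hyperbolic pair -/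
theorem zeros_pair_hyp {Q : QuadraticForm F V} {v w : V} (h : Pair Q v w) (hv : Q v = 0)
    (hw : Q w = 0) :
    zeros Q = Fintype.card F * zeros (res Q (pcompl Q v w)) +
      (Fintype.card F - 1) * Nat.card (pcompl Q v w) := by
  classical
  have : Finite V := Module.finite_of_finite F
  have : Fintype V := Fintype.ofFinite V
  have : Fintype (pcompl Q v w) := Fintype.ofFinite _
  rw [zeros_eq_cnt, zeros_eq_cnt, Nat.card_eq_fintype_card, ← cnt_hyp_add]
  apply cnt_congr_equiv (psplit h).toEquiv
  intro x
  have h1 : x = (psplit h).symm (psplit h x) := ((psplit h).symm_apply_apply x).symm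
  conv_rhs => rw [h1, q_psplit_symm, hv, hw, mul_zero, mul_zero, zero_add, add_zero]
  rfl

end zeros

end Cfsg.Agent.Lib.Helper5.QuadTwo
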