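import Mathlib
import Cfsg.Agent.Lib.Helper5.QuadTwo.Hyp

set_option autoImplicit false

/-!
# Quadratic spaces over finite fields of characteristic two: basic facts
-/

namespace Cfsg.Agent.Lib.Helper5.QuadTwo

open QuadraticMap Module

universe u v

section field
variable {F : Type u} [Field F] (h2 : (2 : F) = 0)

include h2

theorem add_self_two (a : F) : a + a = 0 := by rw [← two_mul, h2, zero_mul]

theorem neg_eq_self_two (a : F) : -a = a := by
  rw [neg_eq_iff_add_eq_zero]
  exact add_self_two h2 a

theorem exists_sq [Finite F] (a : F) : ∃ s : F, s * s = a := by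
  have hinj : Function.Injective (fun x : F => x * x) := by
    intro x y h
    have h' : x * x = y * y := h
    have e : (x - y) * (x - y) = x * x + y * y - 2 * (x * y) := by ring
    rw [h', h2, zero_mul, sub_zero, add_self_two h2] at e
    exact sub_eq_zero.1 (mul_self_eq_zero.1 e)
  exact Finite.surjective_of_injective hinj a

/-- the Artin–Schreier map has image of index two -/
theorem exists_as [Finite F] (β β' : F) (hβ : ∀ s : F, s * s + s ≠ β)
    (hβ' : ∀ s : F, s * s + s ≠ β') : ∃ s : F, s * s + s = β + β' := by
  classical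
  let f : F →+ F := AddMonoidHom.mk' (fun x => x * x + x) (by
    intro a b
    have e : (a + b) * (a + b) + (a + b) = a * a + a + (b * b + b) + 2 * (a * b) := by ring
    rw [e, h2, zero_mul, add_zero])
  have hf : ∀ x, f x = x * x + x := fun x => rfl
  have hker : Nat.card f.ker = 2 := by
    rw [Nat.card_eq_two_iff]
    refine ⟨⟨0, by rw [AddMonoidHom.mem_ker, hf]; ring⟩,
      ⟨1, by rw [AddMonoidHom.mem_ker, hf, one_mul, one_add_one_eq_two, h2]⟩, ?_, ?_⟩
    · intro h
      exact zero_ne_one (congrArg Subtype.val h)
    · ext ⟨x, hx⟩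
      simp only [Set.mem_insert_iff, Set.mem_singleton_iff, Set.mem_univ, iff_true,
        Subtype.mk.injEq]
      rw [AddMonoidHom.mem_ker, hf] at hx
      have e : x * (x + 1) = 0 := by rw [← hx]; ring
      rcases mul_eq_zero.1 e with h | h
      · exact Or.inl h
      · right
        rw [← neg_eq_self_two h2 1]
        exact eq_neg_of_add_eq_zero_left h
  have hidx : f.range.index = 2 := by
    have h1 := AddSubgroup.card_mul_index f.ker
    have h3 := AddSubgroup.card_mul_index f.range
    have h4 := AddSubgroup.index_ker f
    rw [hker, h4] at h1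
    have hpos : 0 < Nat.card f.range := Nat.card_pos
    rw [← h1] at h3
    exact Nat.eq_of_mul_eq_mul_left hpos (by rw [h3, mul_comm])
  obtain ⟨a, ha⟩ := AddSubgroup.index_eq_two_iff.1 hidx
  have hmem : ∀ b : F, b ∈ f.range ↔ ∃ s, s * s + s = b := by
    intro b
    rw [AddMonoidHom.mem_range]
    rfl
  have k1 : β + a ∈ f.range := by
    rcases ha β with ⟨h, -⟩ | ⟨h, -⟩
    · exact h
    · exact absurd ((hmem β).1 h) (by push Not; exact hβ)
  have k2 : β' + a ∈ f.range := by
    rcases ha β' with ⟨h, -⟩ | ⟨h, -⟩
    · exact h
    · exact absurd ((hmem β').1 h) (by push Not; exact hβ')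
  have k3 := f.range.add_mem k1 k2
  have e : β + a + (β' + a) = β + β' := by
    have := add_self_two h2 a
    linear_combination this
  rw [e] at k3
  exact (hmem _).1 k3

end field

section space
variable {F : Type u} [Field F] (h2 : (2 : F) = 0) {V : Type v} [AddCommGroup V] [Module F V]
  (Q : QuadraticForm F V)

include h2

theorem polar_self_two (x : V) : polar Q x x = 0 := by
  rw [polar_self, two_smul, add_self_two h2]

theorem pair_of_polar_one {v w : V} (h : polar Q v w = 1) : Pair Q v w :=
  ⟨h, polar_self_two h2 Q v, polar_self_two h2 Q w⟩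

/-- there is no nondegenerate line in characteristic two -/
theorem not_nd_of_finrank_one [FiniteDimensional F V] (hQ : Nd Q) (h1 : finrank F V = 1) : False := by
  obtain ⟨e, he⟩ := (Module.finrank_pos_iff_exists_ne_zero (R := F) (M := V)).1 (by omega)
  apply he
  apply hQ
  intro w
  obtain ⟨c, rfl⟩ := (finrank_eq_one_iff_of_nonzero' e he).1 h1 w
  rw [polar_smul_left, polar_self_two h2, smul_zero]

/-- spaces of dimension at least three are isotropic -/
theorem exists_singular [Finite F] [FiniteDimensional F V] (hdim : 3 ≤ finrank F V) :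
    ∃ v : V, v ≠ 0 ∧ Q v = 0 := by
  obtain ⟨e, he⟩ := (Module.finrank_pos_iff_exists_ne_zero (R := F) (M := V)).1 (by omega)
  by_cases he0 : Q e = 0
  · exact ⟨e, he, he0⟩
  -- a vector orthogonal to `e` outside the line of `e`
  have h1 : ∃ w, polar Q e w = 0 ∧ w ∉ Submodule.span F {e} := by
    by_contra hcon
    push Not at hcon
    have hle : LinearMap.ker (polarBilin Q e) ≤ Submodule.span F {e} := by
      intro w hw
      exact hcon w (LinearMap.mem_ker.1 hw)
    have h3 := Submodule.finrank_mono hle
    rw [finrank_span_singleton he] at h3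
    have h4 := LinearMap.finrank_range_add_finrank_ker (polarBilin Q e)
    have h5 : finrank F (LinearMap.range (polarBilin Q e)) ≤ 1 := by
      have := Submodule.finrank_le (LinearMap.range (polarBilin Q e))
      rwa [Module.finrank_self] at this
    omega
  obtain ⟨w, hw, hwe⟩ := h1
  obtain ⟨s, hs⟩ := exists_sq h2 (Q w / Q e)
  refine ⟨s • e + w, ?_, ?_⟩
  · intro h
    apply hwe
    have : w = (-s) • e := by
      rw [neg_smul]
      exact eq_neg_of_add_eq_zero_right h
    rw [this]
    exact Submodule.smul_mem _ _ (Submodule.mem_span_singleton_self e)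
  · rw [q_add, q_smul, polar_smul_left, hw, smul_zero, add_zero, hs, div_mul_cancel₀ _ he0]
    exact add_self_two h2 _

end space

end Cfsg.Agent.Lib.Helper5.QuadTwo
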