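import Mathlib
import Cfsg.Agent.Lib.Helper5.QuadTwo.Two

set_option autoImplicit false

/-!
# Classification of nondegenerate quadratic spaces over finite fields of characteristic two
by the number of singular vectors
-/

namespace Cfsg.Agent.Lib.Helper5.QuadTwo

open QuadraticMap Module

universe u v

section zeros
variable {F : Type u} [Field F] {V : Type v} [AddCommGroup V] [Module F V] (Q : QuadraticForm F V)

theorem zeros_eq_one_of_aniso (han : ∀ v, v ≠ 0 → Q v ≠ 0) : zeros Q = 1 := by
  unfold zeros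
  rw [Nat.card_eq_one_iff_unique]
  refine ⟨⟨?_⟩, ⟨⟨0, QuadraticMap.map_zero Q⟩⟩⟩
  intro a b
  apply Subtype.ext
  have ha : a.1 = 0 := by
    by_contra h
    exact han a.1 h a.2
  have hb : b.1 = 0 := by
    by_contra h
    exact han b.1 h b.2
  rw [ha, hb]

theorem one_lt_zeros_of [Finite V] (v : V) (hv : v ≠ 0) (hv0 : Q v = 0) : 1 < zeros Q := by
  unfold zeros
  rw [Finite.one_lt_card_iff_nontrivial]
  exact ⟨⟨0, QuadraticMap.map_zero Q⟩, ⟨v, hv0⟩, fun h => hv (congrArg Subtype.val h).symm⟩

end zeros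

section cls
variable {F : Type u} [Field F] [Fintype F] (h2 : (2 : F) = 0)

include h2

/-- normalised basis of an anisotropic space of positive dimension -/
theorem exists_norm_pair {V : Type v} [AddCommGroup V] [Module F V] [FiniteDimensional F V]
    (Q : QuadraticForm F V) (hQ : Nd Q) (hpos : 0 < finrank F V)
    (han : ∀ v, v ≠ 0 → Q v ≠ 0) :
    ∃ e f : V, Q e = 1 ∧ polar Q e f = 1 ∧ ∀ s : F, s * s + s ≠ Q f := by
  obtain ⟨e₀, he₀⟩ := (Module.finrank_pos_iff_exists_ne_zero (R := F) (M := V)).1 hpos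
  have hq0 := han e₀ he₀
  obtain ⟨s, hs⟩ := exists_sq h2 (Q e₀)⁻¹
  have he : Q (s • e₀) = 1 := by rw [q_smul, hs, inv_mul_cancel₀ hq0]
  have hene : s • e₀ ≠ 0 := by
    intro h
    rw [h, QuadraticMap.map_zero] at he
    exact zero_ne_one he
  have h1 : ∃ u, polar Q u (s • e₀) ≠ 0 := by
    by_contra h
    push Not at h
    exact hene (hQ _ h)
  obtain ⟨u, hu⟩ := h1
  have hef : polar Q (s • e₀) ((polar Q u (s • e₀))⁻¹ • u) = 1 := by
    rw [polar_smul_right, smul_eq_mul, polar_comm Q (s • e₀) u, inv_mul_cancel₀ hu]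
  refine ⟨s • e₀, (polar Q u (s • e₀))⁻¹ • u, he, hef, ?_⟩
  intro t ht
  obtain ⟨f, hf⟩ : ∃ f, f = (polar Q u (s • e₀))⁻¹ • u := ⟨_, rfl⟩
  rw [← hf] at hef ht
  have h3 : Q (t • (s • e₀) + f) = 0 := by
    rw [q_add, q_smul, he, polar_smul_left, hef, smul_eq_mul, mul_one, mul_one, ← ht]
    linear_combination add_self_two h2 (t * t + t)
  have h4 : t • (s • e₀) + f ≠ 0 := by
    intro h
    have h5 : polar Q (s • e₀) (t • (s • e₀) + f) = 1 := by
      rw [polar_add_right, polar_smul_right, polar_self_two h2, smul_zero, zero_add, hef]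
    rw [h, polar_zero_right] at h5
    exact zero_ne_one h5
  exact han _ h4 h3

omit [Fintype F] in
theorem adjust_pair {V : Type v} [AddCommGroup V] [Module F V] (Q : QuadraticForm F V)
    {e f : V} (he : Q e = 1) (hef : polar Q e f = 1) (s : F) :
    polar Q e (f + s • e) = 1 ∧ Q (f + s • e) = Q f + (s * s + s) := by
  constructor
  · rw [polar_add_right, polar_smul_right, polar_self_two h2, smul_zero, add_zero, hef]
  · rw [q_add, q_smul, he, polar_smul_right, polar_comm, hef, smul_eq_mul]
    ring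

/-- **Classification by the number of singular vectors.** -/
theorem iso_of_zeros_eq_aux : ∀ n : ℕ, ∀ (V V' : Type v) [AddCommGroup V] [Module F V]
    [AddCommGroup V'] [Module F V'] [FiniteDimensional F V] [FiniteDimensional F V']
    (Q : QuadraticForm F V) (Q' : QuadraticForm F V'), Nd Q → Nd Q' → finrank F V = n →
    finrank F V' = n → zeros Q = zeros Q' → ∃ φ : V ≃ₗ[F] V', ∀ x, Q' (φ x) = Q x := by
  intro n
  induction n using Nat.strong_induction_on with
  | _ n ih =>
  intro V V' _ _ _ _ _ _ Q Q' hQ hQ' hn hn' hz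
  have : Finite V := Module.finite_of_finite F
  have : Finite V' := Module.finite_of_finite F
  by_cases hiso : ∃ v : V, v ≠ 0 ∧ Q v = 0
  · obtain ⟨v, hv, hv0⟩ := hiso
    have hz1 : 1 < zeros Q := one_lt_zeros_of Q v hv hv0
    obtain ⟨v', hv', hv0'⟩ : ∃ v' : V', v' ≠ 0 ∧ Q' v' = 0 := by
      by_contra hcon
      push Not at hcon
      have := zeros_eq_one_of_aniso Q' hcon
      omega
    obtain ⟨w, hw0, hp⟩ := exists_hyp_pair hQ hv hv0
    obtain ⟨w', hw0', hp'⟩ := exists_hyp_pair hQ' hv' hv0'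
    have hf := finrank_pcompl hp
    have hf' := finrank_pcompl hp'
    have hzz := zeros_pair_hyp hp hv0 hw0
    have hzz' := zeros_pair_hyp hp' hv0' hw0'
    have hc : Nat.card (pcompl Q v w) = Nat.card (pcompl Q' v' w') := by
      have e : finrank F (pcompl Q v w) = finrank F (pcompl Q' v' w') := by omega
      rw [Module.natCard_eq_pow_finrank (K := F) (V := pcompl Q v w),
        Module.natCard_eq_pow_finrank (K := F) (V := pcompl Q' v' w'), e]
    have hz0 : zeros (res Q (pcompl Q v w)) = zeros (res Q' (pcompl Q' v' w')) := by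
      rw [hzz, hzz', hc] at hz
      have hq : 0 < Fintype.card F := Fintype.card_pos
      exact Nat.eq_of_mul_eq_mul_left hq (Nat.add_right_cancel hz)
    obtain ⟨ψ, hψ⟩ := ih (n - 2) (by omega) (pcompl Q v w) (pcompl Q' v' w') (res Q _)
      (res Q' _) (nd_pcompl hQ hp) (nd_pcompl hQ' hp') (by omega) (by omega) hz0
    exact glue hp hp' (by rw [hv0, hv0']) (by rw [hw0, hw0']) ψ hψ
  · push Not at hiso
    have hz1 := zeros_eq_one_of_aniso Q hiso
    have hiso' : ∀ v' : V', v' ≠ 0 → Q' v' ≠ 0 := by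
      by_contra hcon
      push Not at hcon
      obtain ⟨v', hv', hv0'⟩ := hcon
      have := one_lt_zeros_of Q' v' hv' hv0'
      omega
    have hn3 : n < 3 := by
      by_contra h
      obtain ⟨v, hv, hv0⟩ := exists_singular h2 Q (by omega)
      exact hiso v hv hv0
    interval_cases n
    · exact iso_of_finrank_zero (Q := Q) Q' hn hn'
    · exact (not_nd_of_finrank_one h2 Q hQ hn).elim
    · obtain ⟨e, f, he, hef, hf⟩ := exists_norm_pair h2 Q hQ (by omega) hiso
      obtain ⟨e', f', he', hef', hf'⟩ := exists_norm_pair h2 Q' hQ' (by omega) hiso'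
      obtain ⟨s, hs⟩ := exists_as h2 (Q' f') (Q f) hf' hf
      have hp := pair_of_polar_one h2 Q hef
      have hadj := adjust_pair h2 Q' he' hef' s
      have hp' := pair_of_polar_one h2 Q' hadj.1
      have hd := finrank_pcompl hp
      have hd' := finrank_pcompl hp'
      obtain ⟨ψ, hψ⟩ := iso_of_finrank_zero (Q := res Q (pcompl Q e f))
        (res Q' (pcompl Q' e' (f' + s • e'))) (by omega) (by omega)
      exact glue hp hp' (by rw [he, he'])
        (by rw [hadj.2, hs, ← add_assoc, add_self_two h2, zero_add]) ψ hψ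

theorem iso_of_zeros_eq {V V' : Type v} [AddCommGroup V] [Module F V]
    [AddCommGroup V'] [Module F V'] [FiniteDimensional F V] [FiniteDimensional F V']
    (Q : QuadraticForm F V) (Q' : QuadraticForm F V') (hQ : Nd Q) (hQ' : Nd Q')
    (hd : finrank F V = finrank F V') (hz : zeros Q = zeros Q') :
    ∃ φ : V ≃ₗ[F] V', ∀ x, Q' (φ x) = Q x :=
  iso_of_zeros_eq_aux h2 _ V V' Q Q' hQ hQ' hd rfl hz

/-- the number of singular vectors is never `q ^ (n - 1)` -/
theorem q_mul_zeros_ne_aux : ∀ n : ℕ, ∀ (V : Type v) [AddCommGroup V] [Module F V]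
    [FiniteDimensional F V] (Q : QuadraticForm F V), Nd Q → finrank F V = n →
    Fintype.card F * zeros Q ≠ Nat.card V := by
  intro n
  induction n using Nat.strong_induction_on with
  | _ n ih =>
  intro V _ _ _ Q hQ hn
  have : Finite V := Module.finite_of_finite F
  have hq1 : 1 < Fintype.card F := Fintype.one_lt_card
  by_cases hiso : ∃ v : V, v ≠ 0 ∧ Q v = 0
  · obtain ⟨v, hv, hv0⟩ := hiso
    obtain ⟨w, hw0, hp⟩ := exists_hyp_pair hQ hv hv0
    have hf := finrank_pcompl hp
    have hzz := zeros_pair_hyp hp hv0 hw0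
    have hc : Nat.card V = Fintype.card F * (Fintype.card F * Nat.card (pcompl Q v w)) := by
      rw [Module.natCard_eq_pow_finrank (K := F) (V := V),
        Module.natCard_eq_pow_finrank (K := F) (V := pcompl Q v w), hf, pow_add, pow_two,
        Nat.card_eq_fintype_card, mul_assoc]
    intro heq
    apply ih (n - 2) (by omega) (pcompl Q v w) (res Q _) (nd_pcompl hQ hp) (by omega)
    rw [hc, hzz] at heq
    have h3 := Nat.eq_of_mul_eq_mul_left (by omega : 0 < Fintype.card F) heq
    obtain ⟨k, hk⟩ : ∃ k, Fintype.card F = k + 1 := ⟨Fintype.card F - 1, by omega⟩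
    rw [hk] at h3 ⊢
    rw [Nat.add_sub_cancel] at h3
    linarith
  · push Not at hiso
    have hz1 := zeros_eq_one_of_aniso Q hiso
    rw [hz1, mul_one, Module.natCard_eq_pow_finrank (K := F) (V := V), Nat.card_eq_fintype_card, hn]
    intro heq
    have h3 : Fintype.card F ^ 1 = Fintype.card F ^ n := by rw [pow_one]; exact heq
    have h4 := Nat.pow_right_injective hq1 h3
    exact not_nd_of_finrank_one h2 Q hQ (by omega)

theorem q_mul_zeros_ne {V : Type v} [AddCommGroup V] [Module F V]
    [FiniteDimensional F V] (Q : QuadraticForm F V) (hQ : Nd Q) :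
    Fintype.card F * zeros Q ≠ Nat.card V :=
  q_mul_zeros_ne_aux h2 _ V Q hQ rfl

end cls

end Cfsg.Agent.Lib.Helper5.QuadTwo
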