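import Mathlib
import Cfsg.Agent.Lib.Helper5.QuadTwo.Cls

set_option autoImplicit false

/-!
# Witt cancellation for quadratic spaces over finite fields of characteristic two
-/

namespace Cfsg.Agent.Lib.Helper5.QuadTwo

open QuadraticMap Module

universe u v

section cancel
variable {F : Type u} [Field F] [Fintype F] (h2 : (2 : F) = 0)
  {V : Type v} [AddCommGroup V] [Module F V]

omit [Fintype F] in
theorem cnt_mul_left {α : Type*} [Fintype α] (f : α → F) {c : F} (hc : c ≠ 0) (d : F) :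
    cnt (fun y => c * f y) (c * d) = cnt f d := by
  classical
  unfold cnt
  congr 1
  ext y
  simp only [Finset.mem_filter, Finset.mem_univ, true_and]
  exact mul_right_inj' hc

include h2

/-- in characteristic two all nonzero values are taken equally often -/
theorem balanced_two [Fintype V] (Q : QuadraticForm F V) (c : F) (hc : c ≠ 0) :
    cnt Q c = cnt Q 1 := by
  obtain ⟨s, hs⟩ := exists_sq h2 c
  have hs0 : s ≠ 0 := by
    rintro rfl
    rw [mul_zero] at hs
    exact hc hs.symm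
  have h1 := cnt_congr_equiv (LinearEquiv.smulOfNeZero F V s hs0).toEquiv
    (fun y => c * Q y) Q (fun y => by
      show Q (s • y) = c * Q y
      rw [q_smul, hs]) c
  rw [← h1]
  have h3 := cnt_mul_left (fun y => Q y) hc 1
  rw [mul_one] at h3
  exact h3

/-- the number of singular vectors of an orthogonal sum -/
theorem zeros_of_isCompl [FiniteDimensional F V] (Q : QuadraticForm F V) {U W : Submodule F V}
    (hUW : IsCompl U W) (horth : ∀ u ∈ U, ∀ w ∈ W, polar Q u w = 0) :
    ∃ n : ℕ, Nat.card U = zeros (res Q U) + (Fintype.card F - 1) * n ∧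
      zeros Q = zeros (res Q U) * zeros (res Q W) + n * (Nat.card W - zeros (res Q W)) := by
  classical
  have : Finite V := Module.finite_of_finite F
  have : Fintype V := Fintype.ofFinite V
  have : Fintype U := Fintype.ofFinite U
  have : Fintype W := Fintype.ofFinite W
  refine ⟨cnt (res Q U) 1, ?_, ?_⟩
  · rw [Nat.card_eq_fintype_card, zeros_eq_cnt]
    exact card_eq_of_balanced (res Q U) _ (fun c hc => balanced_two h2 (res Q U) c hc)
  · rw [zeros_eq_cnt, zeros_eq_cnt, zeros_eq_cnt, Nat.card_eq_fintype_card,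
      ← cnt_add_of_balanced (res Q U) (res Q W) _ _ rfl
        (fun c hc => balanced_two h2 (res Q U) c hc)]
    symm
    apply cnt_congr_equiv (Submodule.prodEquivOfIsCompl U W hUW).toEquiv
    intro p
    show Q (Submodule.prodEquivOfIsCompl U W hUW p) = Q (p.1 : V) + Q (p.2 : V)
    rw [Submodule.coe_prodEquivOfIsCompl', q_add_of_orth horth]

omit h2 [Fintype F] [AddCommGroup V] [Module F V] in
theorem zeros_le_card [Finite V] (Q : V → F) : zeros Q ≤ Nat.card V := by
  unfold zeros
  exact Nat.card_le_card_of_injective Subtype.val Subtype.val_injective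

/-- **Witt cancellation in characteristic two.** -/
theorem cancel_two [FiniteDimensional F V] (Q : QuadraticForm F V) (hQ : Nd Q)
    {U₁ W₁ U₂ W₂ : Submodule F V} (h₁ : IsCompl U₁ W₁) (h₂ : IsCompl U₂ W₂)
    (horth₁ : ∀ u ∈ U₁, ∀ w ∈ W₁, polar Q u w = 0)
    (horth₂ : ∀ u ∈ U₂, ∀ w ∈ W₂, polar Q u w = 0) (ψ : W₁ ≃ₗ[F] W₂)
    (hψ : ∀ x : W₁, Q (ψ x : V) = Q (x : V)) :
    ∃ χ : U₁ ≃ₗ[F] U₂, ∀ x : U₁, Q (χ x : V) = Q (x : V) := by
  have : Finite V := Module.finite_of_finite F
  obtain ⟨n₁, hA₁, hZ₁⟩ := zeros_of_isCompl h2 Q h₁ horth₁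
  obtain ⟨n₂, hA₂, hZ₂⟩ := zeros_of_isCompl h2 Q h₂ horth₂
  have hb : zeros (res Q W₁) = zeros (res Q W₂) :=
    zeros_congr ψ.toEquiv (res Q W₁) (res Q W₂) (fun x => hψ x)
  have hB : Nat.card W₁ = Nat.card W₂ := Nat.card_congr ψ.toEquiv
  have hdW : finrank F W₁ = finrank F W₂ := LinearEquiv.finrank_eq ψ
  have hd₁ := Submodule.finrank_add_eq_of_isCompl h₁
  have hd₂ := Submodule.finrank_add_eq_of_isCompl h₂
  have hdU : finrank F U₁ = finrank F U₂ := by omega
  have hA : Nat.card U₁ = Nat.card U₂ := by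
    rw [Module.natCard_eq_pow_finrank (K := F) (V := U₁),
      Module.natCard_eq_pow_finrank (K := F) (V := U₂), hdU]
  have hndW : Nd (res Q W₁) := nd_of_isCompl hQ h₁.symm (fun w hw u hu => by
    rw [polar_comm]
    exact horth₁ u hu w hw)
  have hne := q_mul_zeros_ne h2 (res Q W₁) hndW
  have hle := zeros_le_card (res Q W₁)
  have hz : zeros (res Q U₁) = zeros (res Q U₂) := by
    rw [← hb, ← hB] at hZ₂
    rw [hA, hA₂] at hA₁
    rw [hZ₁] at hZ₂
    obtain ⟨k, hk⟩ := Nat.exists_eq_add_of_le hle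
    rw [hk, Nat.add_sub_cancel_left] at hZ₂
    obtain ⟨q', hq'⟩ : ∃ q', Fintype.card F = q' + 1 :=
      ⟨Fintype.card F - 1, by have := Fintype.card_pos (α := F); omega⟩
    rw [hq', Nat.add_sub_cancel] at hA₁
    rw [hk, hq'] at hne
    have e1 : ((n₂ : ℤ) - n₁) * ((q' : ℤ) * zeros (res Q W₁) - k) = 0 := by
      have hA₁' : (zeros (res Q U₂) : ℤ) + q' * n₂ = zeros (res Q U₁) + q' * n₁ := by
        exact_mod_cast hA₁
      have hZ₂' : (zeros (res Q U₁) : ℤ) * zeros (res Q W₁) + n₁ * k =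
          zeros (res Q U₂) * zeros (res Q W₁) + n₂ * k := by
        exact_mod_cast hZ₂
      linear_combination (zeros (res Q W₁) : ℤ) * hA₁' + hZ₂'
    rcases mul_eq_zero.1 e1 with h | h
    · have hn : n₂ = n₁ := by
        have : (n₂ : ℤ) = n₁ := sub_eq_zero.1 h
        exact_mod_cast this
      rw [hn] at hA₁
      omega
    · exfalso
      apply hne
      have : (q' : ℤ) * zeros (res Q W₁) = k := sub_eq_zero.1 h
      have h' : q' * zeros (res Q W₁) = k := by exact_mod_cast this
      rw [← h']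
      ring
  obtain ⟨χ, hχ⟩ := iso_of_zeros_eq h2 (res Q U₁) (res Q U₂) (nd_of_isCompl hQ h₁ horth₁)
    (nd_of_isCompl hQ h₂ horth₂) hdU hz
  exact ⟨χ, fun x => hχ x⟩

end cancel

end Cfsg.Agent.Lib.Helper5.QuadTwo
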