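import Mathlib
import Cfsg.Agent.Lib.Helper5.QuadTwo.Cancel2
import Cfsg.Agent.Lib.Helper5.OrthPrime.OConj

set_option autoImplicit false

/-!
# Isometries of a quadratic space, of order prime to the characteristic
-/

namespace Cfsg.Agent.Lib.Helper5.QuadTwo

open QuadraticMap Module Polynomial
open Cfsg.Agent.Lib.Helper5.SemiConj

universe u v

/-- an isometry of a nondegenerate quadratic space, of order dividing `r` invertible in `F` -/
structure TData (F : Type u) [Field F] (V : Type v) [AddCommGroup V] [Module F V] where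
  Q : QuadraticForm F V
  g : V →ₗ[F] V
  gi : V →ₗ[F] V
  r : ℕ
  nd : Nd Q
  isom : ∀ x, Q (g x) = Q x
  gi_g : ∀ x, gi (g x) = x
  g_gi : ∀ x, g (gi x) = x
  hr : g ^ r = 1
  r0 : (r : F) ≠ 0

namespace TData

variable {F : Type u} [Field F] {V : Type v} [AddCommGroup V] [Module F V] (D : TData F V)

theorem polar_g (x y : V) : polar D.Q (D.g x) (D.g y) = polar D.Q x y := by
  unfold polar
  rw [← map_add, D.isom, D.isom, D.isom]

theorem polar_g_left (x y : V) : polar D.Q (D.g x) y = polar D.Q x (D.gi y) := by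
  conv_lhs => rw [← D.g_gi y]
  exact D.polar_g x (D.gi y)

theorem polar_gi_left (x y : V) : polar D.Q (D.gi x) y = polar D.Q x (D.g y) := by
  rw [← D.polar_g (D.gi x) y, D.g_gi]

theorem gi_eq_of_g_eq {x : V} (h : D.g x = x) : D.gi x = x := by
  conv_lhs => rw [← h]
  exact D.gi_g x

theorem g_pow_apply (x : V) : (D.g ^ D.r) x = x := by rw [D.hr]; rfl

theorem gi_pow : D.gi ^ D.r = 1 := by
  have h1 : D.gi * D.g = 1 := LinearMap.ext fun x => D.gi_g x
  have h2 : D.g * D.gi = 1 := LinearMap.ext fun x => D.g_gi x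
  have hc : Commute D.gi D.g := by
    show D.gi * D.g = D.g * D.gi
    rw [h1, h2]
  calc D.gi ^ D.r = D.gi ^ D.r * D.g ^ D.r := by rw [D.hr, mul_one]
    _ = (D.gi * D.g) ^ D.r := (hc.mul_pow D.r).symm
    _ = 1 := by rw [h1, one_pow]

/-- the fixed space -/
def V1 : Submodule F V := LinearMap.ker (D.g - 1)

/-- the moved space -/
def W : Submodule F V := LinearMap.range (D.g - 1)

theorem mem_V1 (x : V) : x ∈ D.V1 ↔ D.g x = x := by
  unfold V1
  rw [LinearMap.mem_ker, LinearMap.sub_apply, Module.End.one_apply, sub_eq_zero]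

theorem mem_W (x : V) : x ∈ D.W ↔ ∃ y, D.g y - y = x := by
  unfold W
  rw [LinearMap.mem_range]
  rfl

theorem orth : ∀ u ∈ D.V1, ∀ w ∈ D.W, polar D.Q u w = 0 := by
  intro u hu w hw
  rw [mem_V1] at hu
  obtain ⟨y, rfl⟩ := (D.mem_W w).1 hw
  rw [polar_sub_right, ← D.polar_gi_left, D.gi_eq_of_g_eq hu, sub_self]

theorem g_pow_of_sq {x y : V} (hy : D.g y - y = x) (hx : D.g x = x) (k : ℕ) :
    (D.g ^ k) y = y + (k : F) • x := by
  induction k with
  | zero => simp
  | succ k ih =>
    rw [pow_succ', Module.End.mul_apply, ih, map_add, map_smul, hx, Nat.cast_succ, add_smul,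
      one_smul, ← hy]
    abel

theorem disjoint : Disjoint D.V1 D.W := by
  rw [Submodule.disjoint_def]
  intro x hx hw
  rw [mem_V1] at hx
  obtain ⟨y, hy⟩ := (D.mem_W x).1 hw
  have h1 := D.g_pow_of_sq hy hx D.r
  rw [D.g_pow_apply] at h1
  have h2 : (D.r : F) • x = 0 := by
    have h3 : y + (D.r : F) • x = y + 0 := by rw [add_zero]; exact h1.symm
    exact add_left_cancel h3
  exact (smul_eq_zero.1 h2).resolve_left D.r0

theorem isCompl [FiniteDimensional F V] : IsCompl D.V1 D.W := by
  refine ⟨D.disjoint, ?_⟩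
  rw [codisjoint_iff]
  apply Submodule.eq_top_of_disjoint _ _ _ D.disjoint
  have := LinearMap.finrank_range_add_finrank_ker (D.g - 1)
  unfold V1 W
  omega

/-- the quadratic form on the moved space is determined by the polar form -/
theorem q_moved (y : V) : D.Q (D.g y - y) = -polar D.Q (D.g y - y) y := by
  have h1 : D.Q (D.g y - y) = D.Q (D.g y) + D.Q (-y) + polar D.Q (D.g y) (-y) := by
    rw [sub_eq_add_neg, q_add]
  rw [h1, D.isom, QuadraticMap.map_neg, polar_neg_right, polar_sub_left, polar_self, two_smul]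
  ring

theorem ss : Module.End.IsSemisimple D.g :=
  Cfsg.Agent.Lib.Helper5.OrthPrime.OData.isSemisimple_of_pow D.g D.r D.r0 D.hr

theorem ssi : Module.End.IsSemisimple D.gi :=
  Cfsg.Agent.Lib.Helper5.OrthPrime.OData.isSemisimple_of_pow D.gi D.r D.r0 D.gi_pow

/-- in characteristic two, the polar form is alternating: the symplectic data -/
noncomputable def tIso (h2 : (2 : F) = 0) : IsoData (RingHom.id F) (-1 : F) V where
  B := polarBilin D.Q
  g := D.g
  gi := D.gi
  sig2 := fun a => rfl
  eps := neg_ne_zero.mpr one_ne_zero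
  herm := fun x y => by
    rw [RingHom.id_apply, neg_one_mul, neg_eq_self_two h2]
    exact polar_comm D.Q x y
  alt := fun _ x => polar_self_two h2 D.Q x
  nondeg := fun v h => D.nd v h
  isom := fun x y => D.polar_g x y
  gi_g := D.gi_g
  g_gi := D.g_gi
  ss := D.ss
  ssi := D.ssi

theorem tIso_g (h2 : (2 : F) = 0) : (D.tIso h2).g = D.g := rfl

theorem tIso_B (h2 : (2 : F) = 0) (x y : V) : (D.tIso h2).B x y = polar D.Q x y := rfl

end TData

end Cfsg.Agent.Lib.Helper5.QuadTwo
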