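import Mathlib
import Cfsg.Agent.Lib.Helper5.QuadTwo.TData

set_option autoImplicit false

/-!
# Conjugacy of isometries of odd order of a quadratic space in characteristic two
-/

namespace Cfsg.Agent.Lib.Helper5.QuadTwo

open QuadraticMap Module Polynomial
open Cfsg.Agent.Lib.Helper5.SemiConj

universe u v

namespace TData

variable {F : Type u} [Field F] [Fintype F] {V : Type v} [AddCommGroup V] [Module F V]
  [FiniteDimensional F V]

/-- **Conjugacy in characteristic two.** -/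
theorem exists_isometry_conj (h2 : (2 : F) = 0) (D D' : TData F V) (hQ : D'.Q = D.Q)
    (hchar : LinearMap.charpoly D.g = LinearMap.charpoly D'.g) :
    ∃ φ : V ≃ₗ[F] V, (∀ x, D.Q (φ x) = D.Q x) ∧ ∀ x, φ (D.g x) = D'.g (φ x) := by
  obtain ⟨φ₀, hφB, hφg⟩ := Cfsg.Agent.Lib.Helper5.SemiConj.exists_isometry (D.tIso h2)
    (D'.tIso h2) hchar
  have hφB' : ∀ x y, polar D.Q (φ₀ x) (φ₀ y) = polar D.Q x y := by
    intro x y
    have := hφB x y
    rw [tIso_B, tIso_B, hQ] at this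
    exact this
  have hφg' : ∀ x, φ₀ (D.g x) = D'.g (φ₀ x) := hφg
  have hφs : ∀ x, φ₀.symm (D'.g x) = D.g (φ₀.symm x) := by
    intro x
    rw [LinearEquiv.symm_apply_eq, hφg', LinearEquiv.apply_symm_apply]
  -- `φ₀` maps the moved space onto the moved space
  have hmap : D.W.map (φ₀ : V →ₗ[F] V) = D'.W := by
    ext x
    rw [Submodule.mem_map]
    constructor
    · rintro ⟨w, hw, rfl⟩
      obtain ⟨y, rfl⟩ := (D.mem_W w).1 hw
      exact (D'.mem_W _).2 ⟨φ₀ y, by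
        show D'.g (φ₀ y) - φ₀ y = φ₀ (D.g y - y)
        rw [map_sub, hφg']⟩
    · intro hx
      obtain ⟨y, rfl⟩ := (D'.mem_W x).1 hx
      refine ⟨φ₀.symm (D'.g y - y), (D.mem_W _).2 ⟨φ₀.symm y, by rw [map_sub, hφs]⟩, ?_⟩
      exact φ₀.apply_symm_apply _
  obtain ⟨ψ, hψ⟩ : ∃ ψ : D.W ≃ₗ[F] D'.W, ∀ w : D.W, ((ψ w : D'.W) : V) = φ₀ (w : V) :=
    ⟨LinearEquiv.ofSubmodules φ₀ D.W D'.W hmap, fun w => rfl⟩
  have hψQ : ∀ w : D.W, D.Q ((ψ w : D'.W) : V) = D.Q (w : V) := by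
    intro w
    obtain ⟨y, hy⟩ := (D.mem_W w).1 w.2
    rw [hψ, ← hy, D.q_moved, map_sub, hφg']
    have h1 := D'.q_moved (φ₀ y)
    rw [hQ] at h1
    rw [h1, ← hφg', ← map_sub, hφB']
  have horth' : ∀ u ∈ D'.V1, ∀ w ∈ D'.W, polar D.Q u w = 0 := by
    rw [← hQ]
    exact D'.orth
  obtain ⟨φ₁, hφ₁⟩ := cancel_two h2 D.Q D.nd D.isCompl D'.isCompl D.orth horth' ψ hψQ
  -- gluing
  obtain ⟨φ, hφ⟩ : ∃ φ : V ≃ₗ[F] V, φ =
      (Submodule.prodEquivOfIsCompl D.V1 D.W D.isCompl).symm.trans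
        ((φ₁.prodCongr ψ).trans (Submodule.prodEquivOfIsCompl D'.V1 D'.W D'.isCompl)) := ⟨_, rfl⟩
  have key : ∀ (u : D.V1) (w : D.W), φ ((u : V) + (w : V)) = (φ₁ u : V) + (ψ w : V) := by
    intro u w
    have e1 : (Submodule.prodEquivOfIsCompl D.V1 D.W D.isCompl).symm ((u : V) + (w : V)) =
        (u, w) := by
      rw [LinearEquiv.symm_apply_eq, Submodule.coe_prodEquivOfIsCompl']
    rw [hφ, LinearEquiv.trans_apply, e1, LinearEquiv.trans_apply, LinearEquiv.prodCongr_apply,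
      Submodule.coe_prodEquivOfIsCompl']
  have hdec : ∀ x : V, ∃ (u : D.V1) (w : D.W), x = (u : V) + (w : V) := by
    intro x
    have hx : x ∈ (D.V1 ⊔ D.W : Submodule F V) := by rw [D.isCompl.sup_eq_top]; trivial
    obtain ⟨u, hu, w, hw, rfl⟩ := Submodule.mem_sup.mp hx
    exact ⟨⟨u, hu⟩, ⟨w, hw⟩, rfl⟩
  refine ⟨φ, ?_, ?_⟩
  · intro x
    obtain ⟨u, w, rfl⟩ := hdec x
    rw [key, q_add_of_orth horth', q_add_of_orth D.orth, hφ₁, hψQ]
  · intro x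
    obtain ⟨u, w, rfl⟩ := hdec x
    have hgw : D.g (w : V) ∈ D.W := by
      obtain ⟨y, hy⟩ := (D.mem_W w).1 w.2
      exact (D.mem_W _).2 ⟨D.g y, by rw [← hy, map_sub]⟩
    have h1 : D.g ((u : V) + (w : V)) = (u : V) + ((⟨D.g (w : V), hgw⟩ : D.W) : V) := by
      rw [map_add, (D.mem_V1 _).1 u.2]
    rw [h1, key, key, map_add, (D'.mem_V1 _).1 (φ₁ u).2, hψ, hψ, hφg']

end TData

end Cfsg.Agent.Lib.Helper5.QuadTwo
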