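import Mathlib
import Cfsg.Prelude.Def_Classical
import Cfsg.Agent.Lib.Helper5.QuadTwo.Conj2
import Cfsg.Agent.Lib.Helper5.OrthPrime.OMat

set_option autoImplicit false

/-!
# Conjugacy in the isometry group of a quadratic form on `ι → F`
-/

namespace Cfsg.Agent.Lib.Helper5.QuadTwo

open QuadraticMap Module Polynomial Matrix Cfsg
open Cfsg.Agent.Lib.Helper5.OrthPrime

universe u

section mat
variable {F : Type u} [Field F] {ι : Type} [Fintype ι] [DecidableEq ι]

/-- the quadratic space of a quadratic form with nondegenerate polar form -/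
noncomputable def qsOf (Q : QuadraticForm F (ι → F)) (hQ : Nd Q) : QSpace F ι where
  Q := ⇑Q
  B := polarBilin Q
  symm := fun x y => polar_comm Q x y
  nondeg := hQ
  polar := fun x y => rfl
  self := fun x => by
    show polar Q x x = 2 * Q x
    rw [polar_self, two_smul, two_mul]

theorem qsOf_Q (Q : QuadraticForm F (ι → F)) (hQ : Nd Q) : (qsOf Q hQ).Q = ⇑Q := rfl

theorem mem_iso_iff (Q : (ι → F) → F) (g : GL ι F) :
    g ∈ Cfsg.isometryGroup F Q ↔ ∀ u, Q ((g : Matrix ι ι F) *ᵥ u) = Q u := by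
  constructor
  · intro h u
    exact h u u
  · intro h u _
    exact h u

theorem coe_pow_iso (Q : (ι → F) → F) (g : ↥(Cfsg.isometryGroup F Q)) (k : ℕ) :
    (((g ^ k : ↥(Cfsg.isometryGroup F Q)) : GL ι F) : Matrix ι ι F) =
      (((g : GL ι F) : Matrix ι ι F)) ^ k := by
  rw [Subgroup.coe_pow, Units.val_pow_eq_pow_val]

theorem mul_inv_iso (Q : (ι → F) → F) (g : ↥(Cfsg.isometryGroup F Q)) :
    (((g : GL ι F) : Matrix ι ι F)) * (((g⁻¹ : ↥(Cfsg.isometryGroup F Q)) : GL ι F) : Matrix ι ι F)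
      = 1 := by
  rw [Subgroup.coe_inv, ← Units.val_mul, mul_inv_cancel, Units.val_one]

theorem inv_mul_iso (Q : (ι → F) → F) (g : ↥(Cfsg.isometryGroup F Q)) :
    (((g⁻¹ : ↥(Cfsg.isometryGroup F Q)) : GL ι F) : Matrix ι ι F) * (((g : GL ι F) : Matrix ι ι F))
      = 1 := by
  rw [Subgroup.coe_inv, ← Units.val_mul, inv_mul_cancel, Units.val_one]

/-- the data attached to an element of the isometry group -/
noncomputable def tData (Q : QuadraticForm F (ι → F)) (hQ : Nd Q)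
    (g : ↥(Cfsg.isometryGroup F ⇑Q)) (r : ℕ) (hr : g ^ r = 1) (r0 : (r : F) ≠ 0) :
    TData F (ι → F) where
  Q := Q
  g := Matrix.toLin' ((g : GL ι F) : Matrix ι ι F)
  gi := Matrix.toLin' (((g⁻¹ : ↥(Cfsg.isometryGroup F ⇑Q)) : GL ι F) : Matrix ι ι F)
  r := r
  nd := hQ
  isom := fun x => by
    rw [Matrix.toLin'_apply]
    exact (mem_iso_iff (⇑Q) g).1 g.2 x
  gi_g := fun x => by
    rw [Matrix.toLin'_apply, Matrix.toLin'_apply, Matrix.mulVec_mulVec, inv_mul_iso,
      Matrix.one_mulVec]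
  g_gi := fun x => by
    rw [Matrix.toLin'_apply, Matrix.toLin'_apply, Matrix.mulVec_mulVec, mul_inv_iso,
      Matrix.one_mulVec]
  hr := by
    have h1 : Matrix.toLin' (((g : GL ι F) : Matrix ι ι F) ^ r) =
        Matrix.toLin' ((g : GL ι F) : Matrix ι ι F) ^ r :=
      map_pow (Matrix.toLinAlgEquiv' (R := F) (n := ι)) _ r
    rw [← h1, ← coe_pow_iso, hr]
    exact Matrix.toLin'_one
  r0 := r0

/-- an isometry of the quadratic form as an element of the isometry group -/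
theorem exists_of_q_isometry (Q : QuadraticForm F (ι → F)) (φ : (ι → F) ≃ₗ[F] (ι → F))
    (hφ : ∀ x, Q (φ x) = Q x) :
    ∃ P : ↥(Cfsg.isometryGroup F ⇑Q), ∀ v, ((P : GL ι F) : Matrix ι ι F) *ᵥ v = φ v := by
  have hmul : ∀ v, LinearMap.toMatrix' (φ : (ι → F) →ₗ[F] (ι → F)) *ᵥ v = φ v :=
    fun v => LinearMap.toMatrix'_mulVec _ v
  have h1 : LinearMap.toMatrix' (φ : (ι → F) →ₗ[F] (ι → F)) *
      LinearMap.toMatrix' (φ.symm : (ι → F) →ₗ[F] (ι → F)) = 1 := by
    rw [← LinearMap.toMatrix'_comp, ← LinearMap.toMatrix'_id]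
    congr 1
    ext v
    simp
  have h2 : LinearMap.toMatrix' (φ.symm : (ι → F) →ₗ[F] (ι → F)) *
      LinearMap.toMatrix' (φ : (ι → F) →ₗ[F] (ι → F)) = 1 := mul_eq_one_comm.1 h1
  refine ⟨⟨⟨_, _, h1, h2⟩, ?_⟩, hmul⟩
  intro u _
  show Q (LinearMap.toMatrix' (φ : (ι → F) →ₗ[F] (ι → F)) *ᵥ u) = Q u
  rw [hmul]
  exact hφ u

/-- **Conjugacy in the isometry group, characteristic two.** -/
theorem isConj_of_charpoly_eq_two [Fintype F] (h2 : (2 : F) = 0) (Q : QuadraticForm F (ι → F))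
    (hQ : Nd Q) (g h : ↥(Cfsg.isometryGroup F ⇑Q)) (r : ℕ) (r0 : (r : F) ≠ 0)
    (hg : g ^ r = 1) (hh : h ^ r = 1)
    (hc : ((g : GL ι F) : Matrix ι ι F).charpoly = ((h : GL ι F) : Matrix ι ι F).charpoly) :
    IsConj g h := by
  obtain ⟨φ, hφQ, hφg⟩ := TData.exists_isometry_conj h2 (tData Q hQ g r hg r0)
    (tData Q hQ h r hh r0) rfl (by
      show LinearMap.charpoly (Matrix.toLin' ((g : GL ι F) : Matrix ι ι F)) =
        LinearMap.charpoly (Matrix.toLin' ((h : GL ι F) : Matrix ι ι F))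
      rw [Matrix.charpoly_toLin', Matrix.charpoly_toLin', hc])
  obtain ⟨P, hP⟩ := exists_of_q_isometry Q φ hφQ
  rw [isConj_iff]
  refine ⟨P, ?_⟩
  rw [mul_inv_eq_iff_eq_mul]
  apply Subtype.ext
  apply Units.ext
  show ((P : GL ι F) : Matrix ι ι F) * ((g : GL ι F) : Matrix ι ι F) =
    ((h : GL ι F) : Matrix ι ι F) * ((P : GL ι F) : Matrix ι ι F)
  apply Matrix.toLin'.injective
  apply LinearMap.ext
  intro v
  rw [Matrix.toLin'_apply, Matrix.toLin'_apply, ← Matrix.mulVec_mulVec, ← Matrix.mulVec_mulVec,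
    hP, hP]
  have := hφg v
  exact this

/-- **Conjugacy in the isometry group**, all characteristics. -/
theorem isConj_of_charpoly_eq_all [Fintype F] (Q : QuadraticForm F (ι → F))
    (hQ : Nd Q) (g h : ↥(Cfsg.isometryGroup F ⇑Q)) (r : ℕ) (rodd : Odd r) (r0 : (r : F) ≠ 0)
    (hg : g ^ r = 1) (hh : h ^ r = 1)
    (hc : ((g : GL ι F) : Matrix ι ι F).charpoly = ((h : GL ι F) : Matrix ι ι F).charpoly) :
    IsConj g h := by
  by_cases h2 : (2 : F) = 0
  · exact isConj_of_charpoly_eq_two h2 Q hQ g h r r0 hg hh hc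
  · have hodd : Fintype.card F % 2 = 1 := by
      apply FiniteField.odd_card_of_char_ne_two
      intro hch
      apply h2
      have := ringChar.Nat.cast_ringChar (R := F)
      rw [hch] at this
      exact_mod_cast this
    exact (qsOf Q hQ).isConj_of_charpoly_eq hodd h2 g h r rodd r0 hg hh hc

end mat

end Cfsg.Agent.Lib.Helper5.QuadTwo
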