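import Mathlib
import Cfsg.Agent.Lib.Helper5.QuadTwo.QMat2

set_option autoImplicit false

/-!
# Elements of odd order prime to the characteristic of an orthogonal group are conjugate
as soon as they are conjugate as matrices
-/

namespace Cfsg.Agent.Lib.Helper5.QuadTwo

open QuadraticMap Module Polynomial Matrix Cfsg
open Cfsg.Agent.Lib.Helper5.SemiConj

universe u

theorem orth_isConj_iff {F : Type u} [Field F] [Fintype F] (p : ℕ) [Fact p.Prime] [CharP F p]
    {n : ℕ} (Q : QuadraticForm F (Fin n → F)) (hQ : (QuadraticMap.polarBilin Q).Nondegenerate)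
    (A B : ↥(Cfsg.isometryGroup F ⇑Q)) (hodd : Odd (orderOf A)) (hA : (orderOf A).Coprime p) :
    IsConj A B ↔ IsConj ((A : GL (Fin n) F) : Matrix (Fin n) (Fin n) F)
      ((B : GL (Fin n) F) : Matrix (Fin n) (Fin n) F) := by
  constructor
  · intro h
    exact ((Units.coeHom (Matrix (Fin n) (Fin n) F)).comp
      (Subgroup.subtype (Cfsg.isometryGroup F ⇑Q))).map_isConj h
  · rintro ⟨c, hc⟩
    have hc' : (c : Matrix (Fin n) (Fin n) F) * ((A : GL (Fin n) F) : Matrix (Fin n) (Fin n) F) =
        ((B : GL (Fin n) F) : Matrix (Fin n) (Fin n) F) * (c : Matrix (Fin n) (Fin n) F) := hc.eq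
    have hBm : ((B : GL (Fin n) F) : Matrix (Fin n) (Fin n) F) =
        (c : Matrix (Fin n) (Fin n) F) * ((A : GL (Fin n) F) : Matrix (Fin n) (Fin n) F) *
          ((c⁻¹ : (Matrix (Fin n) (Fin n) F)ˣ) : Matrix (Fin n) (Fin n) F) := by
      rw [hc', mul_assoc, Units.mul_inv, mul_one]
    have hcp : ((A : GL (Fin n) F) : Matrix (Fin n) (Fin n) F).charpoly =
        ((B : GL (Fin n) F) : Matrix (Fin n) (Fin n) F).charpoly := by
      rw [hBm, Matrix.coe_units_inv, Matrix.charpoly_units_conj]
    have hAr : A ^ orderOf A = 1 := pow_orderOf_eq_one A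
    have hBr : B ^ orderOf A = 1 := by
      apply Subtype.ext
      apply Units.ext
      rw [coe_pow_iso]
      have h1 := hc.pow_right (orderOf A)
      have h2 : ((A : GL (Fin n) F) : Matrix (Fin n) (Fin n) F) ^ orderOf A = 1 := by
        rw [← coe_pow_iso, hAr]
        rfl
      rw [h2] at h1
      have h3 : (c : Matrix (Fin n) (Fin n) F) * 1 =
          ((B : GL (Fin n) F) : Matrix (Fin n) (Fin n) F) ^ orderOf A *
            (c : Matrix (Fin n) (Fin n) F) := h1.eq
      rw [mul_one] at h3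
      calc ((B : GL (Fin n) F) : Matrix (Fin n) (Fin n) F) ^ orderOf A
          = ((B : GL (Fin n) F) : Matrix (Fin n) (Fin n) F) ^ orderOf A *
            (c : Matrix (Fin n) (Fin n) F) *
              ((c⁻¹ : (Matrix (Fin n) (Fin n) F)ˣ) : Matrix (Fin n) (Fin n) F) := by
            rw [mul_assoc, Units.mul_inv, mul_one]
        _ = 1 := by rw [← h3, Units.mul_inv]
    have r0 : ((orderOf A : ℕ) : F) ≠ 0 := by
      intro h
      have hd := (CharP.cast_eq_zero_iff F p (orderOf A)).mp h
      have h1 : p ∣ Nat.gcd (orderOf A) p := Nat.dvd_gcd hd dvd_rfl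
      rw [hA] at h1
      exact (Fact.out : p.Prime).one_lt.ne' (Nat.dvd_one.mp h1)
    exact isConj_of_charpoly_eq_all Q hQ.2 A B (orderOf A) hodd r0 hAr hBr hcp

end Cfsg.Agent.Lib.Helper5.QuadTwo
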